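import Groth.Agent.Lib.WDivProd3.Chart
import Mathlib.AlgebraicGeometry.PullbackCarrier

/-! # The charts of affine space over a scheme -/

set_option autoImplicit false
set_option linter.style.haveILetI false
set_option backward.isDefEq.respectTransparency.types false
universe u

open CategoryTheory CategoryTheory.Limits AlgebraicGeometry TopologicalSpace

namespace Groth.Agent.WDivProd3

variable {X : Scheme.{u}} [IsIntegral X] [IsLocallyNoetherian X] (σ : Type u) [Finite σ]
  [IsLocallyNoetherian 𝔸(σ; X)]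

theorem exists_chart (x : X) : ∃ c : Chart (𝔸(σ; X) ↘ X) σ, x ∈ Set.range c.e ∧
    ∀ y, (𝔸(σ; X) ↘ X) y ∈ Set.range c.e → y ∈ Set.range c.j := by
  obtain ⟨W, hW, hxW, -⟩ := exists_isAffineOpen_mem_and_subset (X := X) (x := x) (U := ⊤) trivial
  haveI : Nonempty W := ⟨⟨x, hxW⟩⟩
  haveI : IsNoetherianRing Γ(X, W) := IsLocallyNoetherian.component_noetherian ⟨W, hW⟩
  let e := hW.fromSpec
  have hpb := AffineSpace.isPullback_map (n := σ) e
  haveI : IsOpenImmersion (AffineSpace.map σ e) := by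
    rw [← hpb.isoPullback_hom_fst]
    infer_instance
  let j := (AffineSpace.SpecIso σ Γ(X, W)).inv ≫ AffineSpace.map σ e
  have hw : j ≫ (𝔸(σ; X) ↘ X) = prA Γ(X, W) σ ≫ e := by
    rw [Category.assoc, AffineSpace.map_over, ← Category.assoc, AffineSpace.SpecIso_inv_over]
  refine ⟨⟨Γ(X, W), inferInstance, inferInstance, e, j, inferInstance, inferInstance, hw⟩, ?_, fun y hy => ?_⟩
  · show x ∈ Set.range hW.fromSpec
    rw [hW.range_fromSpec]; exact hxW
  · show y ∈ Set.range ⇑((AffineSpace.SpecIso σ Γ(X, W)).inv ≫ AffineSpace.map σ e)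
    rw [← hpb.isoPullback_hom_fst, ← Category.assoc, Scheme.Hom.comp_base, TopCat.coe_comp, Set.range_comp,
      (Scheme.Hom.surjective (((AffineSpace.SpecIso σ Γ(X, W)).inv ≫ hpb.isoPullback.hom))).range_eq,
      Set.image_univ, Scheme.Pullback.range_fst]
    exact hy

instance compactSpace_affineSpace [CompactSpace X] : CompactSpace 𝔸(σ; X) :=
  QuasiCompact.compactSpace_of_compactSpace (𝔸(σ; X) ↘ X)

/-- Pull back to affine space is injective on divisor classes. -/
theorem principal_affineSpace (hR1 : ∀ x : X, Order.coheight x = 1 → IsDiscreteValuationRing (X.presheaf.stalk x))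
    (D : X → ℤ) (hD : ∀ x, Order.coheight x ≠ 1 → D x = 0) {g : 𝔸(σ; X).functionField} (hg : g ≠ 0)
    (h : ∀ y, Order.coheight y = 1 → Scheme.ord g y = D ((𝔸(σ; X) ↘ X) y)) :
    ∃ f, f ≠ 0 ∧ ∀ x, Order.coheight x = 1 → Scheme.ord f x = D x := by
  obtain ⟨c₀, -, hr⟩ := exists_chart σ (genericPoint X)
  exact principal_of_pullback c₀ hr (fun x _ => (exists_chart σ x).imp fun _ h => h.1) hR1 D hD hg h

/-- Pull back to affine space is surjective on divisor classes. -/
theorem pullback_affineSpace [CompactSpace X] (D' : 𝔸(σ; X) → ℤ) (hfin : {y | D' y ≠ 0}.Finite) :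
    ∃ (D : X → ℤ) (g : 𝔸(σ; X).functionField), (∀ x, Order.coheight x ≠ 1 → D x = 0) ∧ {x | D x ≠ 0}.Finite ∧
      g ≠ 0 ∧ ∀ y, Order.coheight y = 1 → D' y = D ((𝔸(σ; X) ↘ X) y) + Scheme.ord g y := by
  obtain ⟨c₀, -, hr⟩ := exists_chart σ (genericPoint X)
  exact exists_pullback c₀ hr (exists_chart σ) D' hfin

end Groth.Agent.WDivProd3
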