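import Mathlib.RingTheory.Ideal.KrullsHeightTheorem
import Mathlib.RingTheory.MvPolynomial.Ideal
import Mathlib.RingTheory.Polynomial.Basic
import Mathlib.RingTheory.Ideal.Quotient.Operations

/-! # Height-one primes of a polynomial ring over a noetherian domain -/

set_option autoImplicit false
set_option linter.style.haveILetI false
universe u

namespace Groth.Agent.WDivProd3

open MvPolynomial

variable {A : Type u} [CommRing A] {σ : Type u}

instance isPrime_map_C (q : Ideal A) [q.IsPrime] : (q.map (C : A →+* MvPolynomial σ A)).IsPrime := by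
  haveI : IsDomain (MvPolynomial σ A ⧸ q.map (C : A →+* MvPolynomial σ A)) :=
    (MvPolynomial.quotientEquivQuotientMvPolynomial q).symm.toRingEquiv.injective.isDomain
  exact (Ideal.Quotient.isDomain_iff_prime _).1 inferInstance

theorem comap_map_C (q : Ideal A) : (q.map (C : A →+* MvPolynomial σ A)).comap C = q := by
  refine le_antisymm (fun a ha => ?_) Ideal.le_comap_map
  rw [Ideal.mem_comap, mem_map_C_iff] at ha
  simpa using ha 0

theorem eq_bot_of_lt_of_height_one {R : Type u} [CommRing R] [IsDomain R] {P q : Ideal R} [P.IsPrime]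
    (hP : P.height = 1) [q.IsPrime] (h : q < P) : q = ⊥ := by
  haveI : q.FiniteHeight := ⟨Or.inr (ne_top_of_le_ne_top (by simp [hP]) (Ideal.height_mono h.le))⟩
  have h1 := Ideal.height_strict_mono_of_isPrime h
  rw [hP, ENat.lt_one_iff_eq_zero, Ideal.height_eq_zero_iff, IsDomain.minimalPrimes_eq_singleton_bot] at h1
  exact h1

theorem one_le_height {R : Type u} [CommRing R] [IsDomain R] {P : Ideal R} [P.IsPrime] (hP : P ≠ ⊥) :
    1 ≤ P.height := by
  rw [Order.one_le_iff_pos, pos_iff_ne_zero]
  intro h0
  rw [Ideal.height_eq_zero_iff, IsDomain.minimalPrimes_eq_singleton_bot] at h0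
  exact hP h0

/-- A height-one prime meeting the base is extended from a height-one prime. -/
theorem vertical [IsDomain A] (P : Ideal (MvPolynomial σ A)) [P.IsPrime] (hP : P.height = 1)
    (hQ : P.comap C ≠ ⊥) : (P.comap C).height = 1 ∧ P = (P.comap C).map C := by
  let Q := P.comap C
  have heq : Q.map C = P := by
    by_contra hne
    exact hQ ((Ideal.map_eq_bot_iff_of_injective (C_injective σ A)).1
      (eq_bot_of_lt_of_height_one hP (lt_of_le_of_ne Ideal.map_comap_le hne)))
  refine ⟨le_antisymm ?_ (one_le_height hQ), heq.symm⟩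
  show Q.height ≤ ((1 : ℕ) : ℕ∞)
  rw [Ideal.height_le_iff]
  intro q hq hlt
  haveI := hq
  have hqP : q.map (C : A →+* MvPolynomial σ A) < P := heq ▸ lt_of_le_of_ne (Ideal.map_mono hlt.le) fun h => hlt.ne (by
    have := congrArg (Ideal.comap (C : A →+* MvPolynomial σ A)) h
    rwa [comap_map_C, comap_map_C] at this)
  have hq0 := eq_bot_of_lt_of_height_one hP hqP
  rw [Ideal.map_eq_bot_iff_of_injective (C_injective σ A)] at hq0
  subst hq0
  rw [Ideal.height_bot]
  exact_mod_cast zero_lt_one

/-- The extension of a height-one prime has height one. -/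
theorem height_map_C [IsDomain A] [IsNoetherianRing A] [Finite σ] (Q : Ideal A) [Q.IsPrime] (hQ : Q.height = 1) :
    (Q.map (C : A →+* MvPolynomial σ A)).height = 1 := by
  obtain ⟨a, haQ, ha⟩ := Q.ne_bot_iff.1 (fun h => by
    subst h; rw [Ideal.height_bot] at hQ; exact zero_ne_one hQ)
  refine le_antisymm ?_ (one_le_height fun h => ha ?_)
  · haveI : (Ideal.span {C a} : Ideal (MvPolynomial σ A)).IsPrincipal := ⟨⟨C a, rfl⟩⟩
    refine Ideal.height_le_one_of_isPrincipal_of_mem_minimalPrimes (Ideal.span {C a}) _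
      ⟨⟨inferInstance, (Ideal.span_singleton_le_iff_mem _).2 (Ideal.mem_map_of_mem _ haQ)⟩, fun P ⟨hP, hle⟩ hPle => ?_⟩
    haveI := hP
    have haP : a ∈ P.comap C := hle (Ideal.mem_span_singleton_self _)
    have hQP : P.comap C = Q := by
      by_contra hne
      have hlt : P.comap C < Q := lt_of_le_of_ne ((Ideal.comap_mono hPle).trans (comap_map_C Q).le) hne
      exact ha (Ideal.mem_bot.1 (eq_bot_of_lt_of_height_one hQ hlt ▸ haP))
    exact hQP ▸ Ideal.map_comap_le
  · exact (map_eq_zero_iff C (C_injective σ A)).1 (Ideal.mem_bot.1 (h ▸ Ideal.mem_map_of_mem C haQ))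

end Groth.Agent.WDivProd3
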