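import Groth.Agent.Lib.WDiv3.Basic
import Groth.Agent.Lib.RefHull26.Finite
import Mathlib.RingTheory.OrderOfVanishing.Noetherian
import Mathlib.RingTheory.Length

/-! # Pull-back of rational functions along a dominant morphism, orders of vanishing -/

set_option autoImplicit false
set_option linter.style.haveILetI false
set_option backward.isDefEq.respectTransparency.types false
universe u

open CategoryTheory AlgebraicGeometry TopologicalSpace

namespace Groth.Agent.WDivProd3

open Groth.Agent.WDiv3

section ord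

variable {X : Scheme.{u}} [IsIntegral X] [IsLocallyNoetherian X]

theorem ord_algebraMap_isUnit {x : X} (hx : Order.coheight x = 1) {a : X.presheaf.stalk x} (ha : IsUnit a) :
    Scheme.ord (algebraMap _ X.functionField a) x = 0 := by
  haveI : Ring.KrullDimLE 1 (X.presheaf.stalk x) := krullDimLE_of_coheight_le hx.le
  have hne : algebraMap _ X.functionField a ≠ 0 := (ha.map (algebraMap _ X.functionField)).ne_zero
  rw [Scheme.ord_eq_iff hx hne]
  exact (Ring.ordFrac_of_isUnit ha).trans (by rw [ofAdd_zero, WithZero.coe_one])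

theorem ord_algebraMap_generator {x : X} (hx : Order.coheight x = 1) {a : X.presheaf.stalk x}
    (ha : IsLocalRing.maximalIdeal (X.presheaf.stalk x) = Ideal.span {a}) :
    a ≠ 0 ∧ Scheme.ord (algebraMap _ X.functionField a) x = 1 := by
  haveI : Ring.KrullDimLE 1 (X.presheaf.stalk x) := krullDimLE_of_coheight_le hx.le
  have h0 : a ≠ 0 := fun h => by
    have hd := (RH26.dim_eq_one_iff x).2 hx
    rw [h, Ideal.span_singleton_zero, ← IsLocalRing.isField_iff_maximalIdeal_eq] at ha
    rw [ringKrullDim_eq_zero_of_isField ha] at hd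
    exact zero_ne_one hd
  refine ⟨h0, ?_⟩
  have h1 : Ring.ord (X.presheaf.stalk x) a = ((1 : ℕ) : ℕ∞) := by
    rw [Ring.ord, ← ha, Nat.cast_one, Module.length_eq_one_iff, isSimpleModule_iff_isCoatom]
    exact Ideal.isMaximal_def.1 (IsLocalRing.maximalIdeal.isMaximal _)
  rw [Scheme.ord_eq_iff hx ((map_ne_zero_iff _ (IsFractionRing.injective _ _)).2 h0)]
  exact (Ring.ordFrac_eq_ord _ h0).trans (Ring.ordMonoidWithZeroHom_eq_coe _ (mem_nonZeroDivisors_of_ne_zero h0) h1)

theorem ord_div {f g : X.functionField} (hf : f ≠ 0) (hg : g ≠ 0) (x : X) :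
    Scheme.ord (f / g) x = Scheme.ord f x - Scheme.ord g x := by
  rw [div_eq_mul_inv, Scheme.ord_mul hf (inv_ne_zero hg), RH26.ord_inv hg, sub_eq_add_neg]

omit [IsLocallyNoetherian X] in
theorem coheight_genericPoint : Order.coheight (genericPoint X) = 0 :=
  Order.coheight_eq_zero.2 fun _ _ => (genericPoint_spec X).specializes trivial

/-- Only finitely many orders of a rational function are nonzero. -/
theorem finite_ord_ne_zero [CompactSpace X] {f : X.functionField} (hf : f ≠ 0) :
    {x : X | Scheme.ord f x ≠ 0}.Finite := by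
  have key : ∀ x : X, ∃ U : X.Opens, IsAffineOpen U ∧ x ∈ U ∧ {y : X | y ∈ U ∧ Scheme.ord f y ≠ 0}.Finite := by
    intro x
    obtain ⟨U, hU, hxU, -⟩ := exists_isAffineOpen_mem_and_subset (X := X) (x := x) (U := ⊤) trivial
    haveI : Nonempty U := ⟨⟨x, hxU⟩⟩
    haveI := functionField_isFractionRing_of_isAffineOpen X U hU
    obtain ⟨a, b, hb, rfl⟩ := IsFractionRing.div_surjective (A := Γ(X, U)) f
    have hb0 : b ≠ 0 := nonZeroDivisors.ne_zero hb
    have ha0 : a ≠ 0 := fun h => hf (by rw [h, map_zero, zero_div])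
    refine ⟨U, hU, hxU, (RH26.finite_coheight_one hU (Z := (X.basicOpen (a * b) : Set X)ᶜ)
      (X.basicOpen (a * b)).isOpen.isClosed_compl ?_).subset ?_⟩
    · intro h
      refine h ?_
      rw [(genericPoint_spec X).mem_open_set_iff (X.basicOpen (a * b)).isOpen]
      have hne : X.basicOpen (a * b) ≠ ⊥ := fun h => mul_ne_zero ha0 hb0 ((basicOpen_eq_bot_iff _).1 h)
      obtain ⟨y, hy⟩ := Set.nonempty_iff_ne_empty.2 fun h => hne (Opens.ext h)
      exact ⟨y, trivial, hy⟩
    · rintro y ⟨hyU, hy⟩
      have hy1 : Order.coheight y = 1 := by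
        by_contra h; exact hy (Scheme.ord_eq_zero_of_coheight_neq_one h _)
      refine ⟨hyU, fun hyb => hy ?_, hy1⟩
      have hu := (X.mem_basicOpen (a * b) y hyU).1 hyb
      rw [map_mul, IsUnit.mul_iff] at hu
      have e : ∀ c : Γ(X, U), algebraMap Γ(X, U) X.functionField c =
          algebraMap _ X.functionField (X.presheaf.germ U y hyU c) := fun c =>
        (Scheme.algebraMap_germ_eq_germToFunctionField _ hyU c).symm
      rw [ord_div (fun h => ha0 ((map_eq_zero_iff _ (IsFractionRing.injective _ _)).1 h))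
        (fun h => hb0 ((map_eq_zero_iff _ (IsFractionRing.injective _ _)).1 h)), e, e,
        ord_algebraMap_isUnit hy1 hu.1, ord_algebraMap_isUnit hy1 hu.2, sub_zero]
  choose U hU hxU hfin using key
  obtain ⟨t, ht⟩ := isCompact_univ.elim_finite_subcover (fun x => (U x : Set X)) (fun x => (U x).isOpen)
    (fun x _ => Set.mem_iUnion.2 ⟨x, hxU x⟩)
  refine ((t.finite_toSet.biUnion fun x _ => hfin x)).subset fun y hy => ?_
  obtain ⟨x, hx, hxy⟩ := Set.mem_iUnion₂.1 (ht (Set.mem_univ y))
  exact Set.mem_biUnion hx ⟨hxy, hy⟩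

end ord

section pull

variable {X Y : Scheme.{u}} [IsIntegral X] [IsIntegral Y] (q : Y ⟶ X)

/-- Pull-back of rational functions. -/
noncomputable def pullFF (h : q (genericPoint Y) = genericPoint X) : X.functionField ⟶ Y.functionField :=
  X.presheaf.stalkSpecializes (specializes_of_eq h) ≫ q.stalkMap (genericPoint Y)

variable {q} (h : q (genericPoint Y) = genericPoint X)

theorem pullFF_algebraMap (y : Y) (a : X.presheaf.stalk (q y)) :
    pullFF q h (algebraMap _ X.functionField a) = algebraMap _ Y.functionField (q.stalkMap y a) := by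
  have e : X.presheaf.stalkSpecializes ((genericPoint_spec X).specializes (trivial : q y ∈ ⊤)) ≫ pullFF q h =
      q.stalkMap y ≫ Y.presheaf.stalkSpecializes ((genericPoint_spec Y).specializes (trivial : y ∈ ⊤)) := by
    simp [pullFF, ← Scheme.Hom.stalkSpecializes_stalkMap]
  exact ConcreteCategory.congr_hom e a

theorem pullFF_injective : Function.Injective (pullFF q h) := (pullFF q h).hom.injective

theorem pullFF_ne_zero {f : X.functionField} (hf : f ≠ 0) : pullFF q h f ≠ 0 :=
  (map_ne_zero_iff _ (pullFF_injective h)).2 hf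

variable [IsLocallyNoetherian Y]

/-- Pulled-back functions have order zero along horizontal points. -/
theorem ord_pullFF_horizontal {y : Y} (hy : q y = genericPoint X) {f : X.functionField} (hf : f ≠ 0) :
    Scheme.ord (pullFF q h f) y = 0 := by
  by_cases hy1 : Order.coheight y = 1
  swap
  · exact Scheme.ord_eq_zero_of_coheight_neq_one hy1 _
  obtain ⟨a, b, hb, rfl⟩ := IsFractionRing.div_surjective (A := X.presheaf.stalk (q y)) f
  have hfld : IsField (X.presheaf.stalk (q y)) := by rw [hy]; exact RH26.isField_η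
  have ha : a ≠ 0 := fun e => hf (by rw [e, map_zero, zero_div])
  have hu : ∀ c : X.presheaf.stalk (q y), c ≠ 0 → IsUnit c := fun c hc => by
    obtain ⟨d, hd⟩ := hfld.mul_inv_cancel hc
    exact IsUnit.of_mul_eq_one _ hd
  have hua := (hu a ha).map (q.stalkMap y).hom
  have hub := (hu b (nonZeroDivisors.ne_zero hb)).map (q.stalkMap y).hom
  rw [map_div₀, pullFF_algebraMap h y, pullFF_algebraMap h y,
    ord_div (hua.map (algebraMap _ Y.functionField)).ne_zero (hub.map (algebraMap _ Y.functionField)).ne_zero,
    ord_algebraMap_isUnit hy1 hua, ord_algebraMap_isUnit hy1 hub, sub_zero]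

variable [IsLocallyNoetherian X]

/-- Orders are preserved at an unramified point over a codimension-one regular point. -/
theorem ord_pullFF {y : Y} (hy : Order.coheight y = 1) (hx : Order.coheight (q y) = 1)
    [IsDiscreteValuationRing (X.presheaf.stalk (q y))]
    (hmax : (IsLocalRing.maximalIdeal (X.presheaf.stalk (q y))).map (q.stalkMap y).hom =
      IsLocalRing.maximalIdeal (Y.presheaf.stalk y))
    {f : X.functionField} (hf : f ≠ 0) : Scheme.ord (pullFF q h f) y = Scheme.ord f (q y) := by
  obtain ⟨t, ht⟩ := IsDiscreteValuationRing.exists_irreducible (X.presheaf.stalk (q y))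
  have hmt : IsLocalRing.maximalIdeal (X.presheaf.stalk (q y)) = Ideal.span {t} :=
    (IsDiscreteValuationRing.irreducible_iff_uniformizer t).1 ht
  obtain ⟨ht0, ht1⟩ := ord_algebraMap_generator hx hmt
  obtain ⟨hs0, hs1⟩ := ord_algebraMap_generator hy (a := q.stalkMap y t)
    (by rw [← hmax, hmt, Ideal.map_span, Set.image_singleton])
  have hT : algebraMap _ X.functionField t ≠ 0 := (map_ne_zero_iff _ (IsFractionRing.injective _ _)).2 ht0
  have key : ∀ a : X.presheaf.stalk (q y), a ≠ 0 →
      Scheme.ord (pullFF q h (algebraMap _ X.functionField a)) y = Scheme.ord (algebraMap _ X.functionField a) (q y) := by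
    intro a ha
    obtain ⟨n, w, rfl⟩ := IsDiscreteValuationRing.eq_unit_mul_pow_irreducible ha ht
    have hw : algebraMap _ X.functionField (w : X.presheaf.stalk (q y)) ≠ 0 :=
      (w.isUnit.map (algebraMap _ X.functionField)).ne_zero
    rw [map_mul, map_pow, map_mul, map_pow, ← zpow_natCast, ← zpow_natCast,
      Scheme.ord_mul (pullFF_ne_zero h hw) (zpow_ne_zero _ (pullFF_ne_zero h hT)),
      Scheme.ord_mul hw (zpow_ne_zero _ hT), ord_zpow (pullFF_ne_zero h hT), ord_zpow hT, ht1,
      pullFF_algebraMap h y, pullFF_algebraMap h y, hs1, ord_algebraMap_isUnit hx w.isUnit,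
      ord_algebraMap_isUnit hy (w.isUnit.map (q.stalkMap y).hom)]
  obtain ⟨a, b, hb, rfl⟩ := IsFractionRing.div_surjective (A := X.presheaf.stalk (q y)) f
  have ha : a ≠ 0 := fun e => hf (by rw [e, map_zero, zero_div])
  have hb0 : b ≠ 0 := nonZeroDivisors.ne_zero hb
  have hA : algebraMap _ X.functionField a ≠ 0 := (map_ne_zero_iff _ (IsFractionRing.injective _ _)).2 ha
  have hB : algebraMap _ X.functionField b ≠ 0 := (map_ne_zero_iff _ (IsFractionRing.injective _ _)).2 hb0
  rw [map_div₀, ord_div (pullFF_ne_zero h hA) (pullFF_ne_zero h hB), ord_div hA hB, key a ha, key b hb0]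

end pull

end Groth.Agent.WDivProd3
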