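import Groth.Agent.Lib.WDivProd3.Poly
import Mathlib.AlgebraicGeometry.AffineSpace

/-! # Divisor classes of a scheme with affine-space charts over the base -/

set_option autoImplicit false
set_option linter.style.haveILetI false
set_option backward.isDefEq.respectTransparency.types false
universe u

open CategoryTheory AlgebraicGeometry TopologicalSpace MvPolynomial

namespace Groth.Agent.WDivProd3

open Groth.Agent.WDiv3

section comp

variable {X Y Z : Scheme.{u}} [IsIntegral X] [IsIntegral Y] [IsIntegral Z]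

theorem pullFF_comp (g : Z ⟶ Y) (q : Y ⟶ X) (hg : g (genericPoint Z) = genericPoint Y)
    (hq : q (genericPoint Y) = genericPoint X) :
    pullFF (g ≫ q) (by rw [Scheme.Hom.comp_apply, hg, hq]) = pullFF q hq ≫ pullFF g hg := by
  simp only [pullFF, Scheme.Hom.stalkMap_comp, Category.assoc]
  have e : (g ≫ q) (genericPoint Z) = q (g (genericPoint Z)) := rfl
  rw [← Scheme.Hom.stalkSpecializes_stalkMap_assoc q _ _ (specializes_of_eq hg), TopCat.Presheaf.stalkSpecializes_comp_assoc]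
  rfl

theorem pullFF_congr {f f' : Y ⟶ X} (h : f = f') (hf : f (genericPoint Y) = genericPoint X) :
    pullFF f hf = pullFF f' (h ▸ hf) := by
  subst h; rfl

theorem pullFF_eq_ffIso (j : Y ⟶ X) [IsOpenImmersion j] :
    pullFF j (genericPoint_eq_of_isOpenImmersion j) = (ffIso j).hom := rfl

end comp

variable {X Y : Scheme.{u}} [IsIntegral X] [IsIntegral Y] [IsLocallyNoetherian X] [IsLocallyNoetherian Y]

/-- An affine-space chart of `q` over an affine chart of the base. -/
structure Chart (q : Y ⟶ X) (σ : Type u) : Type (u + 1) where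
  A : CommRingCat.{u}
  dom : IsDomain A
  noeth : IsNoetherianRing A
  e : Spec A ⟶ X
  j : Spec (PolyR A σ) ⟶ Y
  he : IsOpenImmersion e
  hj : IsOpenImmersion j
  w : j ≫ q = prA A σ ≫ e

namespace Chart

variable {q : Y ⟶ X} {σ : Type u} [Finite σ] (c : Chart q σ)

attribute [local instance] Chart.dom Chart.noeth Chart.he Chart.hj

theorem q_j (u : ↥(Spec (PolyR c.A σ))) : q (c.j u) = c.e (prA c.A σ u) := by
  rw [← Scheme.Hom.comp_apply, c.w, Scheme.Hom.comp_apply]

theorem e_generic : c.e (genericPoint (Spec c.A)) = genericPoint X := genericPoint_eq_of_isOpenImmersion c.e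

theorem j_generic : c.j (genericPoint (Spec (PolyR c.A σ))) = genericPoint Y :=
  genericPoint_eq_of_isOpenImmersion c.j

include c in
theorem q_generic : q (genericPoint Y) = genericPoint X := by
  rw [← c.j_generic, c.q_j, prA_genericPoint, c.e_generic]

theorem q_eq_generic_iff (u : ↥(Spec (PolyR c.A σ))) :
    q (c.j u) = genericPoint X ↔ prA c.A σ u = genericPoint (Spec c.A) := by
  rw [c.q_j, ← c.e_generic]
  exact c.e.isOpenEmbedding.injective.eq_iff

theorem ffIso_pull (f : X.functionField) :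
    (ffIso c.j).hom (pullFF q c.q_generic f) = pullFF (prA c.A σ) prA_genericPoint ((ffIso c.e).hom f) := by
  have h : pullFF q c.q_generic ≫ pullFF c.j c.j_generic =
      pullFF c.e c.e_generic ≫ pullFF (prA c.A σ) prA_genericPoint := by
    rw [← pullFF_comp, ← pullFF_comp, pullFF_congr c.w]
  exact ConcreteCategory.congr_hom h f

theorem exists_mem_of_horizontal (hr : ∀ y, q y ∈ Set.range c.e → y ∈ Set.range c.j) {y : Y}
    (hq : q y = genericPoint X) : ∃ u, c.j u = y ∧ prA c.A σ u = genericPoint (Spec c.A) := by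
  obtain ⟨u, rfl⟩ := hr y (hq ▸ ⟨_, c.e_generic⟩)
  exact ⟨u, rfl, (c.q_eq_generic_iff u).1 hq⟩

theorem exists_eq_pull {g : Y.functionField} (hg : g ≠ 0)
    (h : ∀ y, y ∈ Set.range c.j → Order.coheight y = 1 → q y = genericPoint X → Scheme.ord g y = 0) :
    ∃ f, f ≠ 0 ∧ pullFF q c.q_generic f = g := by
  have hg' : (ffIso c.j).hom g ≠ 0 := (map_ne_zero_iff _ (ffIso c.j).commRingCatIsoToRingEquiv.injective).2 hg
  obtain ⟨f', hf', hfe⟩ := WDivProd3.exists_eq_pull hg' fun u hu hq => by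
    rw [ord_ffIso]
    exact h _ ⟨u, rfl⟩ ((coheight_eq c.j u).trans hu) ((c.q_eq_generic_iff u).2 hq)
  have hef : (ffIso c.e).hom ((ffIso c.e).inv f') = f' := Iso.inv_hom_id_apply _ _
  refine ⟨(ffIso c.e).inv f', fun h0 => hf' ?_, (ffIso c.j).commRingCatIsoToRingEquiv.injective ?_⟩
  · rw [← hef, h0, map_zero]
  · show (ffIso c.j).hom _ = (ffIso c.j).hom g
    rw [c.ffIso_pull, hef, hfe]

theorem exists_ord_horizontal (D : Y → ℤ) (hfin : {y | D y ≠ 0}.Finite) :
    ∃ g, g ≠ 0 ∧ ∀ y, y ∈ Set.range c.j → Order.coheight y = 1 → q y = genericPoint X → Scheme.ord g y = D y := by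
  obtain ⟨g', hg', h⟩ := WDivProd3.exists_ord_horizontal (fun u => D (c.j u))
    (hfin.preimage c.j.isOpenEmbedding.injective.injOn)
  have hjg : (ffIso c.j).hom ((ffIso c.j).inv g') = g' := Iso.inv_hom_id_apply _ _
  refine ⟨(ffIso c.j).inv g', fun h0 => hg' (by rw [← hjg, h0, map_zero]), ?_⟩
  rintro _ ⟨u, rfl⟩ hu hq
  rw [← ord_ffIso, hjg]
  exact h u ((coheight_eq c.j u).symm.trans hu) ((c.q_eq_generic_iff u).1 hq)

theorem vertical {y : Y} (hy : y ∈ Set.range c.j) (hy1 : Order.coheight y = 1) (hq : q y ≠ genericPoint X) :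
    Order.coheight (q y) = 1 := by
  obtain ⟨u, rfl⟩ := hy
  rw [c.q_j, coheight_eq]
  exact (vertical_pt ((coheight_eq c.j u).symm.trans hy1) fun h => hq ((c.q_eq_generic_iff u).2 h)).1

theorem eq_of_q_eq {y y' : Y} (hy : y ∈ Set.range c.j) (hy' : y' ∈ Set.range c.j) (h1 : Order.coheight y = 1)
    (h1' : Order.coheight y' = 1) (hq : q y ≠ genericPoint X) (h : q y' = q y) : y' = y := by
  obtain ⟨u, rfl⟩ := hy
  obtain ⟨u', rfl⟩ := hy'
  rw [c.q_j, c.q_j] at h
  rw [eq_of_prA_eq ((coheight_eq c.j u).symm.trans h1) ((coheight_eq c.j u').symm.trans h1')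
    (fun hh => hq ((c.q_eq_generic_iff u).2 hh)) (c.e.isOpenEmbedding.injective h)]

theorem exists_pt {x : X} (hx : x ∈ Set.range c.e) (hx1 : Order.coheight x = 1) :
    ∃ y ∈ Set.range c.j, q y = x ∧ Order.coheight y = 1 ∧
      (IsDiscreteValuationRing (X.presheaf.stalk x) →
        ∀ f, f ≠ 0 → Scheme.ord (pullFF q c.q_generic f) y = Scheme.ord f x) := by
  obtain ⟨v, rfl⟩ := hx
  obtain ⟨u, hu, hu1, hord⟩ := WDivProd3.exists_pt (σ := σ) v ((coheight_eq c.e v).symm.trans hx1)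
  refine ⟨c.j u, ⟨u, rfl⟩, by rw [c.q_j, hu], (coheight_eq c.j u).trans hu1, fun hdvr f hf => ?_⟩
  haveI := hdvr
  haveI : IsDiscreteValuationRing ((Spec c.A).presheaf.stalk v) :=
    IsDiscreteValuationRing.RingEquivClass.isDiscreteValuationRing (asIso (c.e.stalkMap v)).commRingCatIsoToRingEquiv
  have hne : (ffIso c.e).hom f ≠ 0 := (map_ne_zero_iff _ (ffIso c.e).commRingCatIsoToRingEquiv.injective).2 hf
  rw [← ord_ffIso, c.ffIso_pull, hord _ hne, ord_ffIso]

end Chart

variable {q : Y ⟶ X} {σ : Type u} [Finite σ]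

/-- Divisors which become principal are principal. -/
theorem principal_of_pullback (c₀ : Chart q σ) (hr : ∀ y, q y ∈ Set.range c₀.e → y ∈ Set.range c₀.j)
    (hcov : ∀ x : X, Order.coheight x = 1 → ∃ c : Chart q σ, x ∈ Set.range c.e)
    (hR1 : ∀ x : X, Order.coheight x = 1 → IsDiscreteValuationRing (X.presheaf.stalk x))
    (D : X → ℤ) (hD : ∀ x, Order.coheight x ≠ 1 → D x = 0) {g : Y.functionField} (hg : g ≠ 0)
    (h : ∀ y, Order.coheight y = 1 → Scheme.ord g y = D (q y)) :
    ∃ f, f ≠ 0 ∧ ∀ x, Order.coheight x = 1 → Scheme.ord f x = D x := by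
  obtain ⟨f, hf, hfg⟩ := c₀.exists_eq_pull hg fun y _ hy hq => by
    rw [h y hy, hq, hD _ (by rw [coheight_genericPoint]; exact zero_ne_one)]
  refine ⟨f, hf, fun x hx => ?_⟩
  obtain ⟨c, hc⟩ := hcov x hx
  obtain ⟨y, -, hyx, hy1, hord⟩ := c.exists_pt hc hx
  rw [← hord (hR1 x hx) f hf, hfg, h y hy1, hyx]

/-- Divisor classes come from the base. -/
theorem exists_pullback (c₀ : Chart q σ) (hr : ∀ y, q y ∈ Set.range c₀.e → y ∈ Set.range c₀.j)
    (hcov : ∀ x : X, ∃ c : Chart q σ, x ∈ Set.range c.e ∧ ∀ y, q y ∈ Set.range c.e → y ∈ Set.range c.j)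
    [CompactSpace Y] (D' : Y → ℤ) (hfin : {y | D' y ≠ 0}.Finite) :
    ∃ (D : X → ℤ) (g : Y.functionField), (∀ x, Order.coheight x ≠ 1 → D x = 0) ∧ {x | D x ≠ 0}.Finite ∧ g ≠ 0 ∧
      ∀ y, Order.coheight y = 1 → D' y = D (q y) + Scheme.ord g y := by
  classical
  obtain ⟨g, hg, hhor⟩ := c₀.exists_ord_horizontal D' hfin
  have hpt : ∀ x : X, Order.coheight x = 1 → ∃ y, q y = x ∧ Order.coheight y = 1 := fun x hx => by
    obtain ⟨c, hc, -⟩ := hcov x
    obtain ⟨y, -, hy, hy1, -⟩ := c.exists_pt hc hx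
    exact ⟨y, hy, hy1⟩
  choose ξ hξ hξ1 using hpt
  let D : X → ℤ := fun x => if h : Order.coheight x = 1 then D' (ξ x h) - Scheme.ord g (ξ x h) else 0
  refine ⟨D, g, fun x hx => dif_neg hx, ?_, hg, fun y hy => ?_⟩
  · refine ((hfin.union (finite_ord_ne_zero hg)).image q).subset fun x hx => ?_
    have h1 : Order.coheight x = 1 := by
      by_contra h; exact hx (dif_neg h)
    refine ⟨ξ x h1, ?_, hξ x h1⟩
    by_contra h
    simp only [Set.mem_union, Set.mem_setOf_eq, not_or, not_not] at h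
    exact hx ((dif_pos h1).trans (by rw [h.1, h.2, sub_zero]))
  · by_cases hq : q y = genericPoint X
    · rw [hhor y (hr y (hq ▸ ⟨_, c₀.e_generic⟩)) hy hq, show D (q y) = 0 from dif_neg (by
        rw [hq, coheight_genericPoint]; exact zero_ne_one), zero_add]
    · obtain ⟨c, hc, hcr⟩ := hcov (q y)
      have hx := c.vertical (hcr y hc) hy hq
      have e : ξ (q y) hx = y :=
        c.eq_of_q_eq (hcr y hc) (hcr _ (by rw [hξ]; exact hc)) hy (hξ1 _ hx) hq (hξ _ hx)
      rw [show D (q y) = _ from dif_pos hx, e]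
      ring

end Groth.Agent.WDivProd3
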