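import Groth.Agent.Lib.WDivProd3.Algebra
import Mathlib.RingTheory.MvPolynomial.Localization
import Mathlib.RingTheory.Polynomial.UniqueFactorization
import Mathlib.RingTheory.Localization.FractionRing
import Mathlib.Algebra.MvPolynomial.Nilpotent

/-! # Horizontal height-one primes of a polynomial ring: generators and factorisation -/

set_option autoImplicit false
set_option linter.style.haveILetI false
universe u

namespace Groth.Agent.WDivProd3

open MvPolynomial
open scoped nonZeroDivisors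

variable (A : Type u) [CommRing A] [IsDomain A] [IsNoetherianRing A] (σ : Type u) [Finite σ]

/-- A height-one prime not meeting the constants. -/
def Hor : Type u := {P : Ideal (MvPolynomial σ A) // P.IsPrime ∧ P.height = 1 ∧ P.comap C = ⊥}

variable {A σ}

local notation "φ" => MvPolynomial.map (σ := σ) (algebraMap A (FractionRing A))

theorem map_injective_fr : Function.Injective φ :=
  MvPolynomial.map_injective _ (IsFractionRing.injective A (FractionRing A))

omit [IsNoetherianRing A] [Finite σ] in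
theorem exists_clear (l : MvPolynomial σ (FractionRing A)) :
    ∃ (b : MvPolynomial σ A) (c : A), c ≠ 0 ∧ φ (C c) * l = φ b := by
  letI : Algebra (MvPolynomial σ A) (MvPolynomial σ (FractionRing A)) := (φ).toAlgebra
  haveI : IsLocalization ((A⁰).map (C (σ := σ))) (MvPolynomial σ (FractionRing A)) :=
    MvPolynomial.isLocalization A⁰ (FractionRing A)
  obtain ⟨⟨b, ⟨_, c, hc, rfl⟩⟩, h⟩ := IsLocalization.surj ((A⁰).map (C (σ := σ))) l
  exact ⟨b, c, nonZeroDivisors.ne_zero hc, (mul_comm _ _).trans h⟩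

omit [IsNoetherianRing A] [Finite σ] in
theorem isUnit_map_C {c : A} (hc : c ≠ 0) : IsUnit (φ (C c)) := by
  rw [map_C]
  exact (IsUnit.mk0 _ ((map_ne_zero_iff _ (IsFractionRing.injective A (FractionRing A))).2 hc)).map C

/-- A generator of a horizontal prime, up to constants. -/
theorem exists_gen (P : Hor A σ) :
    ∃ b ∈ P.1, b ≠ 0 ∧ (∀ p ∈ P.1, ∃ a : A, a ≠ 0 ∧ C a * p ∈ Ideal.span {b}) := by
  obtain ⟨P, hP, hP1, hPh⟩ := P
  haveI := hP
  letI : Algebra (MvPolynomial σ A) (MvPolynomial σ (FractionRing A)) := (φ).toAlgebra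
  haveI : IsLocalization ((A⁰).map (C (σ := σ))) (MvPolynomial σ (FractionRing A)) :=
    MvPolynomial.isLocalization A⁰ (FractionRing A)
  have hdisj : Disjoint (((A⁰).map (C (σ := σ)) : Submonoid _) : Set (MvPolynomial σ A)) (P : Set _) := by
    rw [Set.disjoint_left]
    rintro _ ⟨c, hc, rfl⟩ hcP
    exact nonZeroDivisors.ne_zero hc (Ideal.mem_bot.1 (hPh ▸ (hcP : c ∈ P.comap C)))
  let PL := P.map φ
  haveI : PL.IsPrime := IsLocalization.isPrime_of_isPrime_disjoint ((A⁰).map (C (σ := σ))) _ P hP hdisj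
  have hcm : PL.comap φ = P := IsLocalization.under_map_of_isPrime_disjoint ((A⁰).map (C (σ := σ))) _ hP hdisj
  have hne : PL ≠ ⊥ := fun h => by
    have : P = ⊥ := by
      rw [← hcm, h]; exact (RingHom.injective_iff_ker_eq_bot φ).1 map_injective_fr
    subst this
    rw [Ideal.height_bot] at hP1
    exact zero_ne_one hP1
  obtain ⟨π, hπP, hπ⟩ := Ideal.IsPrime.exists_mem_prime_of_ne_bot inferInstance hne
  obtain ⟨b, c, hc, hb⟩ := exists_clear π
  have hb0 : b ≠ 0 := fun h => by
    rw [h, map_zero, (isUnit_map_C hc).mul_right_eq_zero] at hb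
    exact hπ.ne_zero hb
  have hbP : b ∈ P := by
    rw [← hcm, Ideal.mem_comap, ← hb]
    exact PL.mul_mem_left _ hπP
  refine ⟨b, hbP, hb0, ?_⟩
  haveI : (Ideal.span {π}).IsPrime := (Ideal.span_singleton_prime hπ.ne_zero).2 hπ
  have hq : (Ideal.span {π}).comap φ = P := by
    by_contra hne'
    have hlt : (Ideal.span {π}).comap φ < P :=
      lt_of_le_of_ne ((Ideal.comap_mono ((Ideal.span_singleton_le_iff_mem _).2 hπP)).trans hcm.le) hne'
    have hbq : b ∈ (Ideal.span {π}).comap φ := Ideal.mem_span_singleton'.2 ⟨φ (C c), hb⟩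
    exact hb0 (Ideal.mem_bot.1 (eq_bot_of_lt_of_height_one hP1 hlt ▸ hbq))
  intro p hp
  obtain ⟨l, hl⟩ := Ideal.mem_span_singleton'.1 (show φ p ∈ Ideal.span {π} from Ideal.mem_comap.1 (hq.ge hp))
  obtain ⟨b', c', hc', hb'⟩ := exists_clear l
  refine ⟨c' * c, mul_ne_zero hc' hc, Ideal.mem_span_singleton'.2 ⟨b', map_injective_fr ?_⟩⟩
  rw [map_mul, ← hb', ← hb, map_mul, map_mul, map_mul, ← hl]
  ring

/-- The chosen generator of a horizontal prime. -/
noncomputable def gen (P : Hor A σ) : MvPolynomial σ A := (exists_gen P).choose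

theorem gen_mem (P : Hor A σ) : gen P ∈ P.1 := (exists_gen P).choose_spec.1

theorem gen_ne_zero (P : Hor A σ) : gen P ≠ 0 := (exists_gen P).choose_spec.2.1

theorem gen_spec (P : Hor A σ) {p : MvPolynomial σ A} (hp : p ∈ P.1) :
    ∃ a : A, a ≠ 0 ∧ C a * p ∈ Ideal.span {gen P} := (exists_gen P).choose_spec.2.2 p hp

theorem C_notMem (P : Hor A σ) {a : A} (ha : a ≠ 0) : C a ∉ P.1 := fun h =>
  ha (Ideal.mem_bot.1 (P.2.2.2 ▸ (h : a ∈ P.1.comap C)))

theorem gen_notMem {P Q : Hor A σ} (h : P ≠ Q) : gen P ∉ Q.1 := by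
  intro hmem
  refine h (Subtype.ext ?_)
  haveI := P.2.1
  haveI := Q.2.1
  have hle : P.1 ≤ Q.1 := fun p hp => by
    obtain ⟨a, ha, h⟩ := gen_spec P hp
    exact (Q.2.1.mem_or_mem ((Ideal.span_singleton_le_iff_mem _).2 hmem h)).resolve_left (C_notMem Q ha)
  by_contra hne
  have h0 := eq_bot_of_lt_of_height_one Q.2.2.1 (lt_of_le_of_ne hle hne)
  exact gen_ne_zero P (Ideal.mem_bot.1 (h0 ▸ gen_mem P))

/-- Every polynomial is, up to constants, a product of generators of horizontal primes. -/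
theorem exists_factor {b : MvPolynomial σ A} (hb : b ≠ 0) :
    ∃ (c a : A) (M : Multiset (Hor A σ)), c ≠ 0 ∧ a ≠ 0 ∧ C c * b = C a * (M.map gen).prod := by
  suffices H : ∀ l : MvPolynomial σ (FractionRing A), l ≠ 0 →
      ∃ (c a : A) (M : Multiset (Hor A σ)), c ≠ 0 ∧ a ≠ 0 ∧ φ (C c) * l = φ (C a * (M.map gen).prod) by
    obtain ⟨c, a, M, hc, ha, h⟩ := H (φ b) ((map_ne_zero_iff _ map_injective_fr).2 hb)
    exact ⟨c, a, M, hc, ha, map_injective_fr (by rw [map_mul, h])⟩
  intro l
  induction l using UniqueFactorizationMonoid.induction_on_prime with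
  | h₁ => exact fun h => absurd rfl h
  | h₂ l hl =>
    intro _
    obtain ⟨k, hk, rfl⟩ := MvPolynomial.isUnit_iff_eq_C_of_isReduced.1 hl
    obtain ⟨a, c, hc, rfl⟩ := IsFractionRing.div_surjective (A := A) k
    have hc0 := nonZeroDivisors.ne_zero hc
    have hcK : algebraMap A (FractionRing A) c ≠ 0 := (map_ne_zero_iff _ (IsFractionRing.injective A _)).2 hc0
    refine ⟨c, a, 0, hc0, fun h => hk.ne_zero (by rw [h, map_zero, zero_div]), ?_⟩
    rw [Multiset.map_zero, Multiset.prod_zero, mul_one, map_C, map_C, ← map_mul, mul_div_cancel₀ _ hcK]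
  | h₃ l π hl hπ ih =>
    intro _
    obtain ⟨c, a, M, hc, ha, h⟩ := ih hl
    letI : Algebra (MvPolynomial σ A) (MvPolynomial σ (FractionRing A)) := (φ).toAlgebra
    haveI : IsLocalization ((A⁰).map (C (σ := σ))) (MvPolynomial σ (FractionRing A)) :=
      MvPolynomial.isLocalization A⁰ (FractionRing A)
    haveI : (Ideal.span {π}).IsPrime := (Ideal.span_singleton_prime hπ.ne_zero).2 hπ
    let P := (Ideal.span {π}).comap φ
    haveI : P.IsPrime := Ideal.IsPrime.comap _
    have hh : P.height = 1 := by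
      show ((Ideal.span {π}).under (MvPolynomial σ A)).height = 1
      rw [IsLocalization.height_under ((A⁰).map (C (σ := σ)))]
      exact le_antisymm (Ideal.height_le_one_of_isPrincipal_of_mem_minimalPrimes (Ideal.span {π}) _
        (by rw [Ideal.minimalPrimes_eq_subsingleton_self]; exact Set.mem_singleton _))
        (one_le_height fun h => hπ.ne_zero (Ideal.span_singleton_eq_bot.1 h))
    have hh0 : P.comap C = ⊥ := by
      refine eq_bot_iff.2 fun x hx => Ideal.mem_bot.2 (by_contra fun hx0 => ?_)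
      exact hπ.not_unit (isUnit_of_dvd_unit (Ideal.mem_span_singleton.1 (hx : φ (C x) ∈ Ideal.span {π}))
        (isUnit_map_C hx0))
    let Q : Hor A σ := ⟨P, inferInstance, hh, hh0⟩
    obtain ⟨l', hl'⟩ := Ideal.mem_span_singleton'.1 (gen_mem Q : φ (gen Q) ∈ Ideal.span {π})
    obtain ⟨b, e, he, hb⟩ := exists_clear π
    have hbP : b ∈ Q.1 := show φ b ∈ Ideal.span {π} from Ideal.mem_span_singleton'.2 ⟨φ (C e), hb⟩
    obtain ⟨d, hd, hdb⟩ := gen_spec Q hbP
    obtain ⟨r, hr⟩ := Ideal.mem_span_singleton'.1 hdb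
    have hr' : φ (C d) * φ (C e) * π = φ r * l' * π := by
      rw [mul_assoc (φ (C d)), hb, ← map_mul, ← hr, map_mul, ← hl', mul_assoc]
    have hu : IsUnit l' := isUnit_of_mul_isUnit_right
      ((mul_right_cancel₀ hπ.ne_zero hr') ▸ (isUnit_map_C hd).mul (isUnit_map_C he))
    obtain ⟨k, hk, hkl⟩ := MvPolynomial.isUnit_iff_eq_C_of_isReduced.1 hu
    obtain ⟨u, v, hv, rfl⟩ := IsFractionRing.div_surjective (A := A) k
    have hv0 := nonZeroDivisors.ne_zero hv
    have hu0 : u ≠ 0 := fun h => hk.ne_zero (by rw [h, map_zero, zero_div])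
    refine ⟨u * c, v * a, Q ::ₘ M, mul_ne_zero hu0 hc, mul_ne_zero hv0 ha, ?_⟩
    have hvK : algebraMap A (FractionRing A) v ≠ 0 := (map_ne_zero_iff _ (IsFractionRing.injective A _)).2 hv0
    have hk' : φ (C v) * φ (gen Q) = φ (C u) * π := by
      rw [← hl', hkl, ← mul_assoc, map_C, map_C, ← map_mul, mul_div_cancel₀ _ hvK]
    rw [Multiset.map_cons, Multiset.prod_cons,
      show C (v * a) * (gen Q * (M.map gen).prod) = (C v * gen Q) * (C a * (M.map gen).prod) by rw [C_mul]; ring,
      map_mul φ, map_mul φ (C v), hk', ← h, C_mul, map_mul]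
    ring

end Groth.Agent.WDivProd3
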