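import Groth.Agent.Lib.WDivProd3.Gen
import Groth.Agent.Lib.WDivProd3.Basic

/-! # Divisors on affine space over an affine base -/

set_option autoImplicit false
set_option linter.style.haveILetI false
set_option backward.isDefEq.respectTransparency.types false
universe u

open CategoryTheory AlgebraicGeometry TopologicalSpace MvPolynomial
open scoped nonZeroDivisors

namespace Groth.Agent.WDivProd3

open Groth.Agent.WDiv3

section spec

variable (R : CommRingCat.{u}) [IsDomain R]

noncomputable abbrev sp (x : ↥(Spec R)) : R →+* (Spec R).presheaf.stalk x :=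
  (StructureSheaf.toStalk R x).hom

theorem alg_eq (x : ↥(Spec R)) (a : R) :
    algebraMap R (Spec R).functionField a =
      algebraMap ((Spec R).presheaf.stalk x) (Spec R).functionField (sp R x a) :=
  (StructureSheaf.toStalk_stalkSpecializes_apply
    (show genericPoint (Spec R) ⤳ x from (genericPoint_spec _).specializes trivial) a).symm

/-- A regular function as a rational function. -/
noncomputable def toFF : R →+* (Spec R).functionField := algebraMap R (Spec R).functionField

theorem exists_div (g : (Spec R).functionField) : ∃ a b : R, b ≠ 0 ∧ toFF R a / toFF R b = g := by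
  obtain ⟨a, b, hb, h⟩ := IsFractionRing.div_surjective (A := R) g
  exact ⟨a, b, nonZeroDivisors.ne_zero hb, h⟩

theorem algebraMap_ne_zero {a : R} (ha : a ≠ 0) : toFF R a ≠ 0 :=
  (map_ne_zero_iff _ (IsFractionRing.injective R _)).2 ha

variable [IsNoetherianRing R]

theorem ord_spec_notMem {x : ↥(Spec R)} (hx : Order.coheight x = 1) {a : R} (ha : a ∉ x.asIdeal) :
    Scheme.ord (toFF R a) x = 0 := by
  letI : Algebra R ((Spec R).presheaf.stalk x) := StructureSheaf.stalkAlgebra (R := R) x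
  haveI : IsLocalization.AtPrime ((Spec R).presheaf.stalk x) x.asIdeal := StructureSheaf.IsLocalization.to_stalk R x
  rw [toFF, alg_eq R x a]
  exact ord_algebraMap_isUnit hx (IsLocalization.map_units _ (⟨a, ha⟩ : x.asIdeal.primeCompl))

theorem ord_spec_gen {x : ↥(Spec R)} (hx : Order.coheight x = 1) {a : R} (ha : a ∈ x.asIdeal)
    (h : ∀ p ∈ x.asIdeal, ∃ s ∉ x.asIdeal, s * p ∈ Ideal.span {a}) :
    Scheme.ord (toFF R a) x = 1 := by
  letI : Algebra R ((Spec R).presheaf.stalk x) := StructureSheaf.stalkAlgebra (R := R) x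
  haveI : IsLocalization.AtPrime ((Spec R).presheaf.stalk x) x.asIdeal := StructureSheaf.IsLocalization.to_stalk R x
  rw [toFF, alg_eq R x a]
  refine (ord_algebraMap_generator hx ?_).2
  rw [← IsLocalization.AtPrime.map_eq_maximalIdeal x.asIdeal ((Spec R).presheaf.stalk x)]
  refine le_antisymm (Ideal.map_le_iff_le_comap.2 fun p hp => ?_)
    ((Ideal.span_singleton_le_iff_mem _).2 (Ideal.mem_map_of_mem _ ha))
  obtain ⟨s, hs, hsp⟩ := h p hp
  rw [Ideal.mem_comap]
  refine (Ideal.unit_mul_mem_iff_mem _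
    (IsLocalization.map_units ((Spec R).presheaf.stalk x) (⟨s, hs⟩ : x.asIdeal.primeCompl))).1 ?_
  obtain ⟨c, hc⟩ := Ideal.mem_span_singleton'.1 hsp
  show algebraMap R _ s * algebraMap R _ p ∈ _
  rw [← map_mul, ← hc, map_mul]
  exact Ideal.mul_mem_left _ _ (Ideal.mem_span_singleton_self _)

omit [IsNoetherianRing R] in
theorem coheight_eq_one_iff (x : ↥(Spec R)) : Order.coheight x = 1 ↔ x.asIdeal.height = 1 := by
  rw [idealHeight_eq_coheight]

end spec

variable (A : CommRingCat.{u}) [IsDomain A] [IsNoetherianRing A] (σ : Type u) [Finite σ]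

/-- The coordinate ring of affine space. -/
noncomputable abbrev PolyR : CommRingCat.{u} := CommRingCat.of (MvPolynomial σ A)

/-- The projection from affine space. -/
noncomputable abbrev prA : Spec (PolyR A σ) ⟶ Spec A := Spec.map (CommRingCat.ofHom (C (σ := σ)))

variable {A σ}

theorem prA_genericPoint : prA A σ (genericPoint (Spec (PolyR A σ))) = genericPoint (Spec A) := by
  rw [genericPoint_eq_bot_of_affine, genericPoint_eq_bot_of_affine]
  refine PrimeSpectrum.ext ?_
  exact (RingHom.injective_iff_ker_eq_bot (C : A →+* MvPolynomial σ A)).1 (C_injective σ A)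

theorem prA_eq_generic_iff (y : ↥(Spec (PolyR A σ))) :
    prA A σ y = genericPoint (Spec A) ↔ y.asIdeal.comap C = ⊥ := by
  rw [genericPoint_eq_bot_of_affine]
  exact ⟨fun h => congrArg PrimeSpectrum.asIdeal h, fun h => PrimeSpectrum.ext h⟩

theorem pull_algebraMap (a : A) :
    pullFF (prA A σ) prA_genericPoint (toFF A a) =
      toFF (PolyR A σ) (C a) := by
  let y := genericPoint (Spec (PolyR A σ))
  rw [toFF, toFF, alg_eq A (prA A σ y) a, pullFF_algebraMap (prA_genericPoint (A := A) (σ := σ)) y, alg_eq (PolyR A σ) y]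
  exact congrArg _ (stalkMap_toStalk_apply (CommRingCat.ofHom (C (σ := σ))) y a)

/-- The point of a horizontal prime. -/
noncomputable def horPt (y : ↥(Spec (PolyR A σ))) (hy : Order.coheight y = 1)
    (hq : prA A σ y = genericPoint (Spec A)) : Hor A σ :=
  ⟨y.asIdeal, y.isPrime, (coheight_eq_one_iff _ y).1 hy, (prA_eq_generic_iff y).1 hq⟩

theorem ord_C {y : ↥(Spec (PolyR A σ))} (hy : Order.coheight y = 1)
    (hq : prA A σ y = genericPoint (Spec A)) {a : A} (ha : a ≠ 0) :
    Scheme.ord (toFF (PolyR A σ) (C a)) y = 0 :=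
  ord_spec_notMem _ hy (C_notMem (horPt y hy hq) ha)

theorem prod_gen_ne_zero (M : Multiset (Hor A σ)) : (M.map gen).prod ≠ (0 : MvPolynomial σ A) :=
  Multiset.prod_ne_zero fun h => by
    obtain ⟨P, -, hP⟩ := Multiset.mem_map.1 h
    exact gen_ne_zero P hP

theorem ord_gen_prod [DecidableEq (Hor A σ)] {y : ↥(Spec (PolyR A σ))} (hy : Order.coheight y = 1)
    (hq : prA A σ y = genericPoint (Spec A)) (M : Multiset (Hor A σ)) :
    Scheme.ord (toFF (PolyR A σ) (M.map gen).prod) y =
      M.count (horPt y hy hq) := by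
  induction M using Multiset.induction with
  | empty => rw [Multiset.map_zero, Multiset.prod_zero, map_one, WDiv3.ord_one]; simp
  | cons P M ih =>
    rw [Multiset.map_cons, Multiset.prod_cons, map_mul,
      Scheme.ord_mul (algebraMap_ne_zero _ (gen_ne_zero P)) (algebraMap_ne_zero _ (prod_gen_ne_zero M)), ih]
    by_cases h : P = horPt y hy hq
    · subst h
      rw [Multiset.count_cons_self, ord_spec_gen _ hy (gen_mem (horPt y hy hq)) fun p hp => ?_]
      · push_cast; ring
      · obtain ⟨a, ha, hap⟩ := gen_spec (horPt y hy hq) hp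
        exact ⟨C a, C_notMem (horPt y hy hq) ha, hap⟩
    · rw [Multiset.count_cons_of_ne (Ne.symm h), ord_spec_notMem _ hy (a := gen P) (gen_notMem (Q := horPt y hy hq) h),
        zero_add]

/-- A rational function without horizontal zeros and poles is constant along the fibres. -/
theorem exists_eq_pull {g : (Spec (PolyR A σ)).functionField} (hg : g ≠ 0)
    (h : ∀ y, Order.coheight y = 1 → prA A σ y = genericPoint (Spec A) → Scheme.ord g y = 0) :
    ∃ f, f ≠ 0 ∧ pullFF (prA A σ) prA_genericPoint f = g := by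
  classical
  obtain ⟨a, b, hb0, rfl⟩ := exists_div (PolyR A σ) g
  have ha0 : a ≠ 0 := fun e => hg (by rw [e, map_zero, zero_div])
  obtain ⟨c₁, a₁, M₁, hc₁, ha₁, h₁⟩ := exists_factor (A := A) (σ := σ) ha0
  obtain ⟨c₂, a₂, M₂, hc₂, ha₂, h₂⟩ := exists_factor (A := A) (σ := σ) hb0
  let ι := toFF (PolyR A σ)
  have hne : ∀ {p : MvPolynomial σ A}, p ≠ 0 → ι p ≠ 0 := fun hp => algebraMap_ne_zero _ hp
  have hC : ∀ {x : A}, x ≠ 0 → ι (C x) ≠ 0 := fun hx => hne ((map_ne_zero_iff C (C_injective σ A)).2 hx)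
  have e₁ : ι (C c₁) * ι a = ι (C a₁) * ι (M₁.map gen).prod := by rw [← map_mul, ← map_mul, h₁]
  have e₂ : ι (C c₂) * ι b = ι (C a₂) * ι (M₂.map gen).prod := by rw [← map_mul, ← map_mul, h₂]
  have hM : M₁ = M₂ := by
    refine Multiset.ext.2 fun P => ?_
    haveI := P.2.1
    let y : ↥(Spec (PolyR A σ)) := ⟨P.1, P.2.1⟩
    have hy : Order.coheight y = 1 := (coheight_eq_one_iff _ y).2 P.2.2.1
    have hq : prA A σ y = genericPoint (Spec A) := (prA_eq_generic_iff y).2 P.2.2.2
    have o₁ := congrArg (fun t => Scheme.ord t y) e₁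
    have o₂ := congrArg (fun t => Scheme.ord t y) e₂
    simp only [Scheme.ord_mul (hC hc₁) (hne ha0), Scheme.ord_mul (hC ha₁) (hne (prod_gen_ne_zero M₁)),
      Scheme.ord_mul (hC hc₂) (hne hb0), Scheme.ord_mul (hC ha₂) (hne (prod_gen_ne_zero M₂))] at o₁ o₂
    rw [ord_C hy hq hc₁, ord_C hy hq ha₁, ord_gen_prod hy hq M₁, zero_add, zero_add] at o₁
    rw [ord_C hy hq hc₂, ord_C hy hq ha₂, ord_gen_prod hy hq M₂, zero_add, zero_add] at o₂
    have o₃ := h y hy hq
    rw [ord_div (hne ha0) (hne hb0), o₁, o₂, sub_eq_zero, Nat.cast_inj] at o₃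
    exact o₃
  subst hM
  have hA : ∀ {x : A}, x ≠ 0 → toFF A x ≠ 0 := fun hx => algebraMap_ne_zero A hx
  refine ⟨toFF A (a₁ * c₂) / toFF A (c₁ * a₂),
    div_ne_zero (hA (mul_ne_zero ha₁ hc₂)) (hA (mul_ne_zero hc₁ ha₂)), ?_⟩
  rw [map_div₀, pull_algebraMap, pull_algebraMap, C_mul, C_mul, map_mul, map_mul,
    div_eq_div_iff (mul_ne_zero (hC hc₁) (hC ha₂)) (hne hb0)]
  linear_combination ι (C a₁) * e₂ - ι (C a₂) * e₁

/-- Horizontal divisors are principal on the horizontal part. -/
theorem exists_ord_horizontal (D : ↥(Spec (PolyR A σ)) → ℤ) (hfin : {y | D y ≠ 0}.Finite) :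
    ∃ g, g ≠ 0 ∧ ∀ y, Order.coheight y = 1 → prA A σ y = genericPoint (Spec A) → Scheme.ord g y = D y := by
  classical
  let ι := toFF (PolyR A σ)
  let s := hfin.toFinset.filter fun y => Order.coheight y = 1 ∧ prA A σ y = genericPoint (Spec A)
  have hs : ∀ y ∈ s, Order.coheight y = 1 ∧ prA A σ y = genericPoint (Spec A) := fun y hy => (Finset.mem_filter.1 hy).2
  let t : ↥(Spec (PolyR A σ)) → MvPolynomial σ A := fun y =>
    if h : Order.coheight y = 1 ∧ prA A σ y = genericPoint (Spec A) then gen (horPt y h.1 h.2) else 1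
  have hne : ∀ y ∈ s, ι (t y) ≠ 0 := fun y hy => algebraMap_ne_zero _ (by simp only [t, dif_pos (hs y hy)]; exact gen_ne_zero _)
  refine ⟨∏ y ∈ s, ι (t y) ^ D y, Finset.prod_ne_zero_iff.2 fun y hy => zpow_ne_zero _ (hne y hy),
    fun x hx hq => ?_⟩
  rw [WDiv3.ord_prod _ _ (fun y hy => zpow_ne_zero _ (hne y hy)), Finset.sum_eq_single x]
  · by_cases hxs : x ∈ s
    · rw [ord_zpow (hne x hxs)]
      simp only [ι, t, dif_pos (hs x hxs)]
      rw [ord_spec_gen _ hx (gen_mem (horPt x hx hq)) fun p hp => ?_, mul_one]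
      obtain ⟨a, ha, hap⟩ := gen_spec (horPt x hx hq) hp
      exact ⟨C a, C_notMem (horPt x hx hq) ha, hap⟩
    · have : D x = 0 := by_contra fun h => hxs (Finset.mem_filter.2 ⟨hfin.mem_toFinset.2 h, hx, hq⟩)
      simp [this, WDiv3.ord_one]
  · intro y hy hyx
    rw [ord_zpow (hne y hy)]
    simp only [ι, t, dif_pos (hs y hy)]
    rw [ord_spec_notMem _ hx (gen_notMem (Q := horPt x hx hq) fun e => hyx (PrimeSpectrum.ext (congrArg Subtype.val e :))),
      mul_zero]
  · intro hxs
    have : D x = 0 := by_contra fun h => hxs (Finset.mem_filter.2 ⟨hfin.mem_toFinset.2 h, hx, hq⟩)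
    simp [this, WDiv3.ord_one]

theorem vertical_pt {y : ↥(Spec (PolyR A σ))} (hy : Order.coheight y = 1)
    (hq : prA A σ y ≠ genericPoint (Spec A)) :
    Order.coheight (prA A σ y) = 1 ∧ y.asIdeal = (prA A σ y).asIdeal.map C := by
  haveI := y.isPrime
  obtain ⟨h1, h2⟩ := vertical (A := A) (σ := σ) y.asIdeal ((coheight_eq_one_iff _ y).1 hy)
    fun h => hq ((prA_eq_generic_iff y).2 h)
  exact ⟨(coheight_eq_one_iff _ _).2 h1, h2⟩

theorem eq_of_prA_eq {y y' : ↥(Spec (PolyR A σ))} (hy : Order.coheight y = 1) (hy' : Order.coheight y' = 1)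
    (hq : prA A σ y ≠ genericPoint (Spec A)) (h : prA A σ y' = prA A σ y) : y' = y :=
  PrimeSpectrum.ext (by rw [(vertical_pt hy hq).2, (vertical_pt hy' (h ▸ hq)).2, h])

/-- The point above a codimension-one point, with the order formula. -/
theorem exists_pt (x : ↥(Spec A)) (hx : Order.coheight x = 1) :
    ∃ y, prA A σ y = x ∧ Order.coheight y = 1 ∧
      ([IsDiscreteValuationRing ((Spec A).presheaf.stalk x)] → ∀ f, f ≠ 0 →
        Scheme.ord (pullFF (prA A σ) prA_genericPoint f) y = Scheme.ord f x) := by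
  haveI := x.isPrime
  haveI := isPrime_map_C (σ := σ) x.asIdeal
  let y : ↥(Spec (PolyR A σ)) := ⟨x.asIdeal.map C, inferInstance⟩
  have hyx : prA A σ y = x := PrimeSpectrum.ext (comap_map_C x.asIdeal)
  have hy : Order.coheight y = 1 :=
    (coheight_eq_one_iff _ y).2 (height_map_C x.asIdeal ((coheight_eq_one_iff _ x).1 hx))
  refine ⟨y, hyx, hy, ?_⟩
  intro _ f hf
  haveI : IsDiscreteValuationRing ((Spec A).presheaf.stalk (prA A σ y)) := by rw [hyx]; infer_instance
  rw [ord_pullFF (prA_genericPoint (A := A) (σ := σ)) hy (hyx ▸ hx) ?_ hf, hyx]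
  letI : Algebra A ((Spec A).presheaf.stalk (prA A σ y)) := StructureSheaf.stalkAlgebra (R := A) (prA A σ y)
  letI : Algebra (PolyR A σ) ((Spec (PolyR A σ)).presheaf.stalk y) := StructureSheaf.stalkAlgebra (R := PolyR A σ) y
  haveI : IsLocalization.AtPrime ((Spec A).presheaf.stalk (prA A σ y)) (prA A σ y).asIdeal :=
    StructureSheaf.IsLocalization.to_stalk A _
  haveI : IsLocalization.AtPrime ((Spec (PolyR A σ)).presheaf.stalk y) y.asIdeal :=
    StructureSheaf.IsLocalization.to_stalk (PolyR A σ) y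
  rw [← IsLocalization.AtPrime.map_eq_maximalIdeal (prA A σ y).asIdeal ((Spec A).presheaf.stalk (prA A σ y)),
    ← IsLocalization.AtPrime.map_eq_maximalIdeal y.asIdeal ((Spec (PolyR A σ)).presheaf.stalk y), Ideal.map_map,
    show ((prA A σ).stalkMap y).hom.comp (algebraMap A _) =
      (algebraMap (PolyR A σ) ((Spec (PolyR A σ)).presheaf.stalk y)).comp C from
      RingHom.ext fun a => stalkMap_toStalk_apply (CommRingCat.ofHom (C (σ := σ))) y a, ← Ideal.map_map, hyx]

end Groth.Agent.WDivProd3
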