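import Groth.Agent.Lib.WDivProd3.Chart
import Groth.Agent.Lib.ProjSpace.Basic

/-! # Divisor classes of projective space over an affine base -/

set_option autoImplicit false
set_option linter.style.haveILetI false
set_option backward.isDefEq.respectTransparency.types false
universe u

open CategoryTheory CategoryTheory.Limits AlgebraicGeometry TopologicalSpace MvPolynomial

namespace Groth.Agent.WDivProd3

open Groth.Agent.WDiv3

variable {A : Type u} [CommRing A] {n : ℕ}

theorem toSpec_eq_generic [IsDomain A] (H : CohB1.ProjSpace n A) (i : Fin (n + 1))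
    (h : ∀ a : A, a ≠ 0 → C a * (X i : MvPolynomial (Fin (n + 1)) A) ∉ H.asHomogeneousIdeal) :
    CohB1.ProjSpace.toSpec n A H = genericPoint (Spec (CommRingCat.of A)) := by
  let 𝒜 := CohB1.polyGrading n A
  have hXd := ProjSpace.X_mem' n A i
  have hXi : (X i : MvPolynomial (Fin (n + 1)) A) ∉ H.asHomogeneousIdeal := by
    simpa using h 1 one_ne_zero
  obtain ⟨v, rfl⟩ : H ∈ Set.range (Proj.awayι 𝒜 (X i) hXd Nat.one_pos) := by
    rw [← Scheme.Hom.coe_opensRange, Proj.opensRange_awayι]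
    exact hXi
  let a₀ : A → 𝒜 0 := fun a => algebraMap A (𝒜 0) a
  have hw : Proj.awayι 𝒜 (X i) hXd Nat.one_pos ≫ CohB1.ProjSpace.toSpec n A =
      Spec.map (CommRingCat.ofHom ((HomogeneousLocalization.fromZeroRingHom 𝒜 (Submonoid.powers (X i))).comp
        (algebraMap A (𝒜 0)))) := by
    show Proj.awayι 𝒜 (X i) hXd Nat.one_pos ≫ Proj.toSpecZero 𝒜 ≫ _ = _
    rw [Proj.awayι_toSpecZero_assoc, ← Spec.map_comp]
    rfl
  refine Eq.trans (congrArg (fun m : Spec (CommRingCat.of (HomogeneousLocalization.Away 𝒜 (X i))) ⟶ Spec (CommRingCat.of A) => m v) hw) ?_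
  rw [genericPoint_eq_bot_of_affine]
  refine PrimeSpectrum.ext (eq_bot_iff.2 fun a ha => Ideal.mem_bot.2 (by_contra fun ha0 => ?_))
  have hg : C a * (X i : MvPolynomial (Fin (n + 1)) A) ∈ 𝒜 1 :=
    (MvPolynomial.isHomogeneous_X A i).C_mul a
  have hv : v ∈ Proj.awayι 𝒜 (X i) hXd Nat.one_pos ⁻¹ᵁ Proj.basicOpen 𝒜 (C a * X i) := h a ha0
  rw [Proj.awayι_preimage_basicOpen 𝒜 hXd Nat.one_pos hg Nat.one_pos] at hv
  refine hv ?_
  have e : HomogeneousLocalization.Away.isLocalizationElem hXd hg =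
      HomogeneousLocalization.fromZeroRingHom 𝒜 (Submonoid.powers (X i)) (a₀ a) := by
    refine HomogeneousLocalization.val_injective _ ?_
    show Localization.mk ((C a * (X i : MvPolynomial (Fin (n + 1)) A)) ^ 1) _ =
      Localization.mk ((a₀ a : MvPolynomial (Fin (n + 1)) A)) 1
    rw [Localization.mk_eq_mk_iff, Localization.r_iff_exists]
    refine ⟨1, ?_⟩
    simp only [OneMemClass.coe_one, one_mul, a₀, SetLike.GradeZero.coe_algebraMap, MvPolynomial.algebraMap_eq]
    ring
  show _ ∈ v.asIdeal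
  rw [e]
  exact ha

theorem specializes_of_X_mem (H y : CohB1.ProjSpace n A)
    (hH : H.asHomogeneousIdeal.toIdeal = Ideal.span {(X 0 : MvPolynomial (Fin (n + 1)) A)})
    (hy : (X 0 : MvPolynomial (Fin (n + 1)) A) ∈ y.asHomogeneousIdeal) : H ⤳ y := by
  have hle : H.asHomogeneousIdeal.toIdeal ≤ y.asHomogeneousIdeal.toIdeal := by
    rw [hH]
    exact (Ideal.span_singleton_le_iff_mem _).2 hy
  exact specializes_iff_mem_closure.2 ((ProjectiveSpectrum.le_iff_mem_closure (CohB1.polyGrading n A) H y).1 hle)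

section

variable [IsDomain A] [IsNoetherianRing A] [IsIntegral (CohB1.ProjSpace n A)]
  [IsLocallyNoetherian (CohB1.ProjSpace n A)] [IsIntegral (Spec (CommRingCat.of A))]

theorem exists_chart0 : ∃ c : Chart (CohB1.ProjSpace.toSpec n A) (ULift.{u} {j : Fin (n + 1) // j ≠ 0}),
    Function.Surjective c.e ∧ Set.range c.j = {y : CohB1.ProjSpace n A | (X 0 : MvPolynomial (Fin (n + 1)) A) ∉ y.asHomogeneousIdeal} := by
  let ρ : MvPolynomial {j : Fin (n + 1) // j ≠ 0} A ≃ₐ[A] MvPolynomial (ULift.{u} {j : Fin (n + 1) // j ≠ 0}) A :=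
    MvPolynomial.renameEquiv A Equiv.ulift.symm
  let i := Spec.map (CommRingCat.ofHom ρ.toAlgHom.toRingHom)
  haveI : IsIso (CommRingCat.ofHom ρ.toAlgHom.toRingHom) :=
    (ConcreteCategory.isIso_iff_bijective _).2 ρ.bijective
  haveI : IsIso i := inferInstanceAs (IsIso (Spec.map _))
  let j := i ≫ ProjSpace.chart n A 0
  have hw : j ≫ CohB1.ProjSpace.toSpec n A = prA (CommRingCat.of A) (ULift.{u} {j : Fin (n + 1) // j ≠ 0}) ≫ 𝟙 _ := by
    rw [Category.comp_id, Category.assoc, ProjSpace.chart_toSpec, ← Spec.map_comp]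
    congr 1
    exact CommRingCat.hom_ext (RingHom.ext fun a => ρ.commutes a)
  refine ⟨⟨CommRingCat.of A, inferInstance, inferInstance, 𝟙 _, j, inferInstance, inferInstance, hw⟩,
    fun x => ⟨x, rfl⟩, ?_⟩
  show Set.range ⇑(i ≫ ProjSpace.chart n A 0) = _
  rw [Scheme.Hom.comp_base, TopCat.coe_comp, Set.range_comp, i.surjective.range_eq, Set.image_univ,
    ← Scheme.Hom.coe_opensRange, ProjSpace.opensRange_chart]
  rfl

variable {c : Chart (CohB1.ProjSpace.toSpec n A) (ULift.{u} {j : Fin (n + 1) // j ≠ 0})}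
  (hj : Set.range c.j = {y : CohB1.ProjSpace n A | (X 0 : MvPolynomial (Fin (n + 1)) A) ∉ y.asHomogeneousIdeal})
  {H : CohB1.ProjSpace n A} (hH : H.asHomogeneousIdeal.toIdeal = Ideal.span {(X 0 : MvPolynomial (Fin (n + 1)) A)})

include hj hH in
theorem ne_of_mem_range {y : CohB1.ProjSpace n A} (hy : y ∈ Set.range c.j) : y ≠ H := by
  rintro rfl
  rw [hj] at hy
  exact hy (show X 0 ∈ y.asHomogeneousIdeal.toIdeal by rw [hH]; exact Ideal.mem_span_singleton_self _)

include hj hH in
theorem mem_range_of_ne {y : CohB1.ProjSpace n A} (hy : Order.coheight y = 1) (hne : y ≠ H) : y ∈ Set.range c.j := by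
  rw [hj]
  by_contra hmem
  have hsp : H ⤳ y := specializes_of_X_mem H y hH (not_not.1 hmem)
  have hyH : y < H := lt_of_le_not_ge hsp fun h => hne (Specializes.antisymm (show y ⤳ H from h) hsp).eq
  have hη : H ≠ genericPoint (CohB1.ProjSpace n A) := fun h => by
    have hm : genericPoint (CohB1.ProjSpace n A) ∈ (Set.range c.j) := ⟨_, c.j_generic⟩
    exact ne_of_mem_range hj hH hm h.symm
  have hHη : H < genericPoint (CohB1.ProjSpace n A) :=
    lt_of_le_not_ge ((genericPoint_spec _).specializes trivial)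
      fun h => hη (Specializes.antisymm (show H ⤳ genericPoint _ from h) ((genericPoint_spec _).specializes trivial)).eq
  have h1 := Order.coheight_add_one_le hyH
  have h2 := Order.coheight_add_one_le hHη
  rw [coheight_genericPoint, zero_add] at h2
  rw [hy] at h1
  have : (2 : ℕ∞) ≤ 1 := by
    refine le_trans ?_ h1
    rw [show (2 : ℕ∞) = 1 + 1 from rfl]
    exact add_le_add_left h2 1
  exact absurd this (by decide)

include hH in
omit [IsNoetherianRing A] [IsIntegral (CohB1.ProjSpace n A)] [IsLocallyNoetherian (CohB1.ProjSpace n A)]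
  [IsIntegral (Spec (CommRingCat.of A))] in
theorem toSpec_H (hn : 1 ≤ n) : CohB1.ProjSpace.toSpec n A H = genericPoint (Spec (CommRingCat.of A)) := by
  refine toSpec_eq_generic H ⟨1, by omega⟩ fun a ha hmem => ha ?_
  have hmem' : C a * (X (⟨1, by omega⟩ : Fin (n + 1))) ∈ Ideal.span {(X 0 : MvPolynomial (Fin (n + 1)) A)} := hH ▸ hmem
  obtain ⟨r, hr⟩ := Ideal.mem_span_singleton'.1 hmem'
  have := congrArg (MvPolynomial.eval (fun j : Fin (n + 1) => if j = 0 then (0 : A) else 1)) hr
  simpa using this.symm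

variable (hR1 : ∀ x : Spec (CommRingCat.of A), Order.coheight x = 1 →
  IsDiscreteValuationRing ((Spec (CommRingCat.of A)).presheaf.stalk x))

include hj hH hR1 in
theorem principal (he : Function.Surjective c.e) (hn : 1 ≤ n) (d : ℤ) (D : Spec (CommRingCat.of A) → ℤ)
    (hD : ∀ x, Order.coheight x ≠ 1 → D x = 0) (g : (CohB1.ProjSpace n A).functionField) (hg : g ≠ 0)
    (hH' : Scheme.ord g H = d + D (CohB1.ProjSpace.toSpec n A H))
    (h : ∀ y, y ≠ H → Order.coheight y = 1 → Scheme.ord g y = D (CohB1.ProjSpace.toSpec n A y)) :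
    d = 0 ∧ ∃ f, f ≠ 0 ∧ ∀ x, Order.coheight x = 1 → Scheme.ord f x = D x := by
  have hη : D (genericPoint (Spec (CommRingCat.of A))) = 0 :=
    hD _ (by rw [coheight_genericPoint]; exact zero_ne_one)
  obtain ⟨f, hf, hfg⟩ := c.exists_eq_pull hg fun y hy hy1 hq => by
    rw [h y (ne_of_mem_range hj hH hy) hy1, hq, hη]
  refine ⟨?_, f, hf, fun x hx => ?_⟩
  · have h0 : Scheme.ord g H = 0 := hfg ▸ ord_pullFF_horizontal c.q_generic (toSpec_H hH hn) hf
    rw [h0, toSpec_H hH hn, hη, add_zero] at hH'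
    exact hH'.symm
  · obtain ⟨y, hy, hyx, hy1, hord⟩ := c.exists_pt (he x) hx
    rw [← hord (hR1 x hx) f hf, hfg, h y (ne_of_mem_range hj hH hy) hy1, hyx]

include hj hH hR1 in
theorem existsUnique (he : Function.Surjective c.e) (hn : 1 ≤ n) (D' : CohB1.ProjSpace n A → ℤ)
    (hfin : {y | D' y ≠ 0}.Finite) [CompactSpace (CohB1.ProjSpace n A)] :
    ∃! d : ℤ, ∃ (D : Spec (CommRingCat.of A) → ℤ) (g : (CohB1.ProjSpace n A).functionField),
      (∀ x, Order.coheight x ≠ 1 → D x = 0) ∧ {x | D x ≠ 0}.Finite ∧ g ≠ 0 ∧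
      D' H = d + D (CohB1.ProjSpace.toSpec n A H) + Scheme.ord g H ∧
      ∀ y, y ≠ H → Order.coheight y = 1 → D' y = D (CohB1.ProjSpace.toSpec n A y) + Scheme.ord g y := by
  classical
  obtain ⟨g, hg, hhor⟩ := c.exists_ord_horizontal D' hfin
  have hpt : ∀ x : Spec (CommRingCat.of A), Order.coheight x = 1 →
      ∃ y ∈ Set.range c.j, CohB1.ProjSpace.toSpec n A y = x ∧ Order.coheight y = 1 := fun x hx => by
    obtain ⟨y, hyr, hy, hy1, -⟩ := c.exists_pt (he x) hx
    exact ⟨y, hyr, hy, hy1⟩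
  choose ξ hξr hξ hξ1 using hpt
  let D : Spec (CommRingCat.of A) → ℤ := fun x =>
    if h : Order.coheight x = 1 then D' (ξ x h) - Scheme.ord g (ξ x h) else 0
  refine ⟨D' H - D (CohB1.ProjSpace.toSpec n A H) - Scheme.ord g H,
    ⟨D, g, fun x hx => dif_neg hx, ?_, hg, by ring, fun y hyH hy => ?_⟩, ?_⟩
  · refine ((hfin.union (finite_ord_ne_zero hg)).image (CohB1.ProjSpace.toSpec n A)).subset fun x hx => ?_
    have h1 : Order.coheight x = 1 := by
      by_contra h; exact hx (dif_neg h)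
    refine ⟨ξ x h1, ?_, hξ x h1⟩
    by_contra h
    simp only [Set.mem_union, Set.mem_setOf_eq, not_or, not_not] at h
    exact hx ((dif_pos h1).trans (by rw [h.1, h.2, sub_zero]))
  · have hyr := mem_range_of_ne hj hH hy hyH
    by_cases hq : CohB1.ProjSpace.toSpec n A y = genericPoint (Spec (CommRingCat.of A))
    · rw [hhor y hyr hy hq, show D (CohB1.ProjSpace.toSpec n A y) = 0 from dif_neg (by
        rw [hq, coheight_genericPoint]; exact zero_ne_one), zero_add]
    · have hx := c.vertical hyr hy hq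
      have e : ξ _ hx = y := c.eq_of_q_eq hyr (hξr _ hx) hy (hξ1 _ hx) hq (hξ _ hx)
      rw [show D (CohB1.ProjSpace.toSpec n A y) = _ from dif_pos hx, e]
      ring
  · rintro d' ⟨D₂, g₂, hD₂, -, hg₂, hH₂, h₂⟩
    have hgg : g₂ / g ≠ 0 := div_ne_zero hg₂ hg
    have key := (principal (d := D' H - D (CohB1.ProjSpace.toSpec n A H) - Scheme.ord g H - d') hj hH hR1 he hn
      (D - D₂) (fun x hx => by rw [Pi.sub_apply, hD₂ x hx, show D x = 0 from dif_neg hx, sub_zero]) (g₂ / g) hgg ?_ ?_).1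
    · linarith
    · rw [ord_div hg₂ hg, Pi.sub_apply]; linarith
    · intro y hyH hy
      have hyr := mem_range_of_ne hj hH hy hyH
      have hyD : D' y = D (CohB1.ProjSpace.toSpec n A y) + Scheme.ord g y := by
        by_cases hq : CohB1.ProjSpace.toSpec n A y = genericPoint (Spec (CommRingCat.of A))
        · rw [hhor y hyr hy hq, show D (CohB1.ProjSpace.toSpec n A y) = 0 from dif_neg (by
            rw [hq, coheight_genericPoint]; exact zero_ne_one), zero_add]
        · have hx := c.vertical hyr hy hq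
          have e : ξ _ hx = y := c.eq_of_q_eq hyr (hξr _ hx) hy (hξ1 _ hx) hq (hξ _ hx)
          rw [show D (CohB1.ProjSpace.toSpec n A y) = _ from dif_pos hx, e]
          ring
      have := h₂ y hyH hy
      rw [ord_div hg₂ hg, Pi.sub_apply]; linarith

end

end Groth.Agent.WDivProd3
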